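import Cfsg.Agent.Spor.Chk

set_option autoImplicit false
set_option maxRecDepth 100000000
set_option Elab.async false
noncomputable section

namespace Cfsg.Agent.Spor.LyAd

def m0_0 : Nat := nat_lit 0x1
def m0_1 : Nat := nat_lit 0x41
def m0_2 : Nat := nat_lit 0x1
def n0 : Net := Net.cons 2 m0_0 (Net.cons 1 m0_1 (Net.cons 2 m0_2 (Net.nil)))

def m1_0 : Nat := nat_lit 0x5
def m1_1 : Nat := nat_lit 0x1
def m1_2 : Nat := nat_lit 0x40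
def m1_3 : Nat := nat_lit 0x20
def m1_4 : Nat := nat_lit 0x1
def n1 : Net := Net.cons 4 m1_0 (Net.cons 2 m1_1 (Net.cons 1 m1_2 (Net.cons 2 m1_3 (Net.cons 4 m1_4 (Net.nil)))))

def m2_0 : Nat := nat_lit 0x30
def m2_1 : Nat := nat_lit 0x11
def n2 : Net := Net.cons 2 m2_0 (Net.cons 1 m2_1 (Net.nil))

def m3_0 : Nat := nat_lit 0x32
def m3_1 : Nat := nat_lit 0x10
def n3 : Net := Net.cons 2 m3_0 (Net.cons 1 m3_1 (Net.nil))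

def ip1 : List Nat := [0x4c, 0x70, 0xa8]
def l1 : Let := ⟨0, false, 0xff, 0x4, [0xd4, 0x30, 0xf8]⟩

def ip2 : List Nat := [0x28, 0x88, 0x42]
def l2 : Let := ⟨1, false, 0xff, 0x50, [0x68, 0x4a, 0x80]⟩

def ip3 : List Nat := [0x6a, 0x88, 0x24]
def l3 : Let := ⟨2, false, 0xff, 0x82, [0xc4, 0x2a, 0xcc]⟩

def ip4 : List Nat := [0x78, 0xd0, 0x24]
def l4 : Let := ⟨3, false, 0xff, 0x8, [0xd8, 0x4c, 0xb0]⟩

def ip5 : List Nat := [0x59, 0x28, 0x82]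
def l5 : Let := ⟨1, true, 0xff, 0x20, [0xd9, 0x8a, 0x20]⟩

def ip6 : List Nat := [0xe2, 0x35, 0x4c]
def l6 : Let := ⟨2, true, 0xff, 0x0, [0xb6, 0x49, 0x3c]⟩

def ip7 : List Nat := [0x9d, 0xd2, 0x64]
def l7 : Let := ⟨3, true, 0xff, 0x0, [0xbb, 0x16, 0xe0]⟩

def NT : List Net := [n0, n1, n2, n3]
def LT : List Let := [⟨0, false, 0, 0, []⟩, l1, l2, l3, l4, l5, l6, l7]
def T : Tab := ⟨NT, LT⟩
def EX : List (List Nat) := [[], [0], [2], [4], [6], [3], [5], [7]]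
def RL : List (List Nat) := [[7, 0, 7, 7, 0, 6, 2, 7, 0, 6, 6, 0, 6, 2], [7, 0, 6, 6, 6, 6, 0, 6], [2, 2, 2, 2, 2], [7, 0, 7, 0, 6, 3, 7, 0, 7, 0, 6, 2, 7, 0, 6, 0, 6, 2, 7, 0, 6, 0, 6, 2, 7, 0, 6, 0, 6, 2], [3, 3, 7, 2, 6], [7, 0, 6, 2, 7, 2, 2, 0, 6], [7, 0, 7, 7, 0, 6, 6, 6], [3, 7, 0, 6, 3, 7, 0, 2, 2, 0, 6], [3, 3, 7, 0, 7, 0, 6, 2, 2, 7, 0, 7, 0, 6, 3, 7, 0, 6, 0, 6, 2, 0], [7, 7, 4, 4], [3, 3, 5, 2, 4], [7, 0, 7, 0, 7, 5, 0, 2, 5, 2, 2, 0, 4], [0, 7, 0, 5, 0, 6, 0, 4]]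
def XL : List (List Nat) := []
def BW : List (List Nat) := [[0], [2], [6]]
def IV : Nat := 0x403020706050100
def L : List Nat := [1, 2, 3, 4, 5, 6, 7]
def gs : List Nat := [1, 2, 3, 4]
def base : List Nat := [1, 2, 4]

end Cfsg.Agent.Spor.LyAd
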